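import Cfsg.Agent.Comp.TCDefs

set_option autoImplicit false
set_option maxRecDepth 1000000
set_option maxHeartbeats 0
set_option Elab.async false

namespace CF.Comp.O8T

noncomputable def e2_c0 : BT (Bx Nat) := (BT.leaf (Bx.mk (nat_lit 0x0)))
noncomputable def e2_c1 : BT (Bx Nat) := (BT.leaf (Bx.mk (nat_lit 0x109211d0ea1b08685000)))
noncomputable def e2_c2 : BT (Bx Nat) := (BT.leaf (Bx.mk (nat_lit 0xcd51742a85343285800)))
noncomputable def e2_c3 : BT (Bx Nat) := (BT.leaf (Bx.mk (nat_lit 0x4f91ea44686cea8c800)))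
noncomputable def e2_c4 : BT (Bx Nat) := (BT.leaf (Bx.mk (nat_lit 0x53926a546a6d2a8c800)))
noncomputable def e2_c5 : BT (Bx Nat) := (BT.leaf (Bx.mk (nat_lit 0x5f93ea84706dea8c800)))
noncomputable def e2_c6 : BT (Bx Nat) := (BT.leaf (Bx.mk (nat_lit 0x5b936a746e6daa8c800)))
noncomputable def e2_c7 : BT (Bx Nat) := (BT.leaf (Bx.mk (nat_lit 0x63946a94726e2a8c800)))
noncomputable def e2_c8 : BT (Bx Nat) := (BT.leaf (Bx.mk (nat_lit 0x5792ea646c6d6a8c800)))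
noncomputable def e2_p : BT (Bx Nat) := (BT.leaf (Bx.mk (nat_lit 0x1c0660c8248490400000)))
noncomputable def e2_e0 : BT Nat := (BT.node (nat_lit 70) (BT.node (nat_lit 68) (BT.leaf (nat_lit 2)) (BT.node (nat_lit 69) (BT.leaf (nat_lit 262146)) (BT.leaf (nat_lit 1048578)))) (BT.node (nat_lit 71) (BT.leaf (nat_lit 786434)) (BT.node (nat_lit 72) (BT.leaf (nat_lit 1310722)) (BT.leaf (nat_lit 524290)))))
noncomputable def e2_e : BT Nat := e2_e0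
noncomputable def e2_cols : List (BT (Bx Nat)) := [e2_c0, e2_c1, e2_c2, e2_c3, e2_c4, e2_c5, e2_c6, e2_c7, e2_c8]
noncomputable def e2_ch (x j : Nat) : Bx Nat := chunkG e2_cols (nat_lit 1) x j
noncomputable def e2_L (x : Nat) : Bx (Nat → Nat) := lookG e2_ch (nat_lit 8) (nat_lit 255) (nat_lit 11) (nat_lit 2047) x
noncomputable def e2_pc (_ j : Nat) : Bx Nat := e2_p.get j
noncomputable def e2_pb : Bx (Nat → Nat) := lookG e2_pc (nat_lit 8) (nat_lit 255) (nat_lit 11) (nat_lit 2047) (nat_lit 0)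
noncomputable def e2_rots : BT CW := (BT.node (nat_lit 9) (BT.node (nat_lit 4) (BT.node (nat_lit 2) (BT.node (nat_lit 1) (BT.leaf ⟨[], (nat_lit 1000000), (nat_lit 0), (nat_lit 0), (nat_lit 0)⟩) (BT.leaf ⟨[], (nat_lit 1000000), (nat_lit 0), (nat_lit 0), (nat_lit 1)⟩)) (BT.node (nat_lit 3) (BT.leaf ⟨[], (nat_lit 1000000), (nat_lit 0), (nat_lit 0), (nat_lit 2)⟩) (BT.leaf ⟨[(nat_lit 1), (nat_lit 1)], (nat_lit 0), (nat_lit 0), (nat_lit 0), (nat_lit 3)⟩))) (BT.node (nat_lit 6) (BT.node (nat_lit 5) (BT.leaf ⟨[(nat_lit 2), (nat_lit 2)], (nat_lit 1), (nat_lit 0), (nat_lit 0), (nat_lit 3)⟩) (BT.leaf ⟨[(nat_lit 2), (nat_lit 1), (nat_lit 2), (nat_lit 1), (nat_lit 2), (nat_lit 1)], (nat_lit 35), (nat_lit 1), (nat_lit 0), (nat_lit 3)⟩)) (BT.node (nat_lit 7) (BT.leaf ⟨[(nat_lit 3), (nat_lit 1), (nat_lit 3), (nat_lit 1)], (nat_lit 23), (nat_lit 1), (nat_lit 0),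 (nat_lit 3)⟩) (BT.node (nat_lit 8) (BT.leaf ⟨[(nat_lit 3), (nat_lit 2), (nat_lit 3), (nat_lit 2)], (nat_lit 29), (nat_lit 1), (nat_lit 0), (nat_lit 3)⟩) (BT.leaf ⟨[(nat_lit 4), (nat_lit 1), (nat_lit 4), (nat_lit 1)], (nat_lit 24), (nat_lit 1), (nat_lit 0), (nat_lit 3)⟩))))) (BT.node (nat_lit 13) (BT.node (nat_lit 11) (BT.node (nat_lit 10) (BT.leaf ⟨[(nat_lit 4), (nat_lit 2), (nat_lit 4), (nat_lit 2)], (nat_lit 30), (nat_lit 1), (nat_lit 0), (nat_lit 3)⟩) (BT.leaf ⟨[(nat_lit 8), (nat_lit 1), (nat_lit 8), (nat_lit 1)], (nat_lit 25), (nat_lit 1), (nat_lit 0), (nat_lit 3)⟩)) (BT.node (nat_lit 12) (BT.leaf ⟨[(nat_lit 8), (nat_lit 2), (nat_lit 8), (nat_lit 2)], (nat_lit 31), (nat_lit 1), (nat_lit 0), (nat_lit 3)⟩) (BT.leaf ⟨[(nat_lit 6), (nat_lit 1), (nat_lit 6), (nat_lit 1)], (nat_lit 26), (nat_lit 1), (nat_lit 0), (nat_lit 3)⟩))) (BT.node (nat_lit 15)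 (BT.node (nat_lit 14) (BT.leaf ⟨[(nat_lit 6), (nat_lit 2), (nat_lit 6), (nat_lit 2)], (nat_lit 32), (nat_lit 1), (nat_lit 0), (nat_lit 3)⟩) (BT.leaf ⟨[(nat_lit 5), (nat_lit 1), (nat_lit 5), (nat_lit 1)], (nat_lit 27), (nat_lit 1), (nat_lit 0), (nat_lit 3)⟩)) (BT.node (nat_lit 16) (BT.leaf ⟨[(nat_lit 5), (nat_lit 2), (nat_lit 5), (nat_lit 2)], (nat_lit 33), (nat_lit 1), (nat_lit 0), (nat_lit 3)⟩) (BT.node (nat_lit 17) (BT.leaf ⟨[(nat_lit 7), (nat_lit 1), (nat_lit 7), (nat_lit 1)], (nat_lit 28), (nat_lit 1), (nat_lit 0), (nat_lit 3)⟩) (BT.leaf ⟨[(nat_lit 7), (nat_lit 2), (nat_lit 7), (nat_lit 2)], (nat_lit 34), (nat_lit 1), (nat_lit 0), (nat_lit 3)⟩))))))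
noncomputable def e2_hcs : List CW := [⟨[(nat_lit 3)], (nat_lit 0), (nat_lit 0), (nat_lit 0), (nat_lit 0)⟩, ⟨[(nat_lit 4)], (nat_lit 1), (nat_lit 0), (nat_lit 0), (nat_lit 0)⟩, ⟨[(nat_lit 8)], (nat_lit 2), (nat_lit 0), (nat_lit 0), (nat_lit 0)⟩, ⟨[(nat_lit 6)], (nat_lit 3), (nat_lit 0), (nat_lit 0), (nat_lit 0)⟩, ⟨[(nat_lit 5)], (nat_lit 4), (nat_lit 0), (nat_lit 0), (nat_lit 0)⟩, ⟨[(nat_lit 7)], (nat_lit 5), (nat_lit 0), (nat_lit 0), (nat_lit 0)⟩, ⟨[(nat_lit 3)], (nat_lit 6), (nat_lit 0), (nat_lit 0), (nat_lit 0)⟩, ⟨[(nat_lit 4)], (nat_lit 7), (nat_lit 0), (nat_lit 0), (nat_lit 0)⟩, ⟨[(nat_lit 8)], (nat_lit 8), (nat_lit 0), (nat_lit 0), (nat_lit 0)⟩, ⟨[(nat_lit 6)], (nat_lit 9), (nat_lit 0), (nat_lit 0), (nat_lit 0)⟩, ⟨[(nat_lit 5)], (nat_lit 10), (nat_lit 0), (nat_lit 0), (nat_lit 0)⟩, ⟨[(nat_lit 7)], (nat_lit 11), (nat_lit 0), (nat_lit 0), (nat_lit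 0)⟩]
noncomputable def e2_H (x j : Nat) : Bx (Nat → Nat → Nat) := mkH e2_L e2_pb.1 e2_e.get (lmap CW.w e2_hcs) (nat_lit 6) (nat_lit 7) (nat_lit 9) (nat_lit 8) (nat_lit 256) (nat_lit 511) x (e2_rots.get j)
noncomputable def e2_F (x b : Nat) : Bool := blkOK e2_H e2_ch (nat_lit 7) (nat_lit 8) (nat_lit 32) (nat_lit 8) (nat_lit 255) (nat_lit 11) (nat_lit 2047) x b

theorem e2_k0_0 : allFrom (e2_F (nat_lit 0)) (nat_lit 0) (nat_lit 4) = true := by decide +kernel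
theorem e2_k1_0 : allFrom (e2_F (nat_lit 1)) (nat_lit 0) (nat_lit 4) = true := by decide +kernel
theorem e2_k2_0 : allFrom (e2_F (nat_lit 2)) (nat_lit 0) (nat_lit 4) = true := by decide +kernel
theorem e2_k3_0 : allFrom (e2_F (nat_lit 3)) (nat_lit 0) (nat_lit 4) = true := by decide +kernel
theorem e2_k4_0 : allFrom (e2_F (nat_lit 4)) (nat_lit 0) (nat_lit 4) = true := by decide +kernel
theorem e2_k5_0 : allFrom (e2_F (nat_lit 5)) (nat_lit 0) (nat_lit 4) = true := by decide +kernel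
theorem e2_k6_0 : allFrom (e2_F (nat_lit 6)) (nat_lit 0) (nat_lit 4) = true := by decide +kernel
theorem e2_k7_0 : allFrom (e2_F (nat_lit 7)) (nat_lit 0) (nat_lit 4) = true := by decide +kernel
theorem e2_k8_0 : allFrom (e2_F (nat_lit 8)) (nat_lit 0) (nat_lit 4) = true := by decide +kernel

noncomputable def e3_c0 : BT (Bx Nat) := (BT.leaf (Bx.mk (nat_lit 0x0)))
noncomputable def e3_c1 : BT (Bx Nat) := (BT.leaf (Bx.mk (nat_lit 0x26b6686911caa58912accda92bd893c469a847049708de118e83bc18782f845728aa524d248a68f691ad02e224d647c207c110000)))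
noncomputable def e3_c2 : BT (Bx Nat) := (BT.leaf (Bx.mk (nat_lit 0x273667691bcea77c171c2d193af83676e6a74b4e73390885f82c7855f0aaf05be0b2534d268a70f699ace2e364e145e08fc308000)))
noncomputable def e3_c3 : BT (Bx Nat) := (BT.leaf (Bx.mk (nat_lit 0xe275e0ecccca17852eea6d98bab1947326e7ca0d8b92f83e133ba49651adb255862f4b46129e24b459bc13d984c347a78bc308000)))
noncomputable def e3_c4 : BT (Bx Nat) := (BT.leaf (Bx.mk (nat_lit 0x2837c3e7c1d215852aeabd98aab2b479a7c3c3876f832855fc3afc18caecf05d532a4a4e946a80f83a38727825c5c7aa8bc308000)))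
noncomputable def e3_c5 : BT (Bx Nat) := (BT.leaf (Bx.mk (nat_lit 0x193652e8e3cf116e229e0e3889f837f06ab2c9e58b490859f12ba246cb0c991751ab883f105f053c413c147826c607ab0bc308000)))
noncomputable def e3_c6 : BT (Bx Nat) := (BT.leaf (Bx.mk (nat_lit 0x27b66eeb86c7839552e91599faf0d2e1a3e0d3c19b3d0851f0eba1e6cc4ce193c323c15f82aa78f6f9add2f0c3f049aa0bc308000)))
noncomputable def e3_p : BT (Bx Nat) := (BT.leaf (Bx.mk (nat_lit 0x86837e4476066d85650565025cc55c86544654044b444b41430142c442c23a823a46320631c5294529432105210418c61082084100000000)))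
noncomputable def e3_e0 : BT Nat := (BT.node (nat_lit 68) (BT.node (nat_lit 67) (BT.leaf (nat_lit 2)) (BT.leaf (nat_lit 786434))) (BT.node (nat_lit 69) (BT.leaf (nat_lit 524290)) (BT.node (nat_lit 70) (BT.leaf (nat_lit 1048578)) (BT.leaf (nat_lit 262146)))))
noncomputable def e3_e : BT Nat := e3_e0
noncomputable def e3_cols : List (BT (Bx Nat)) := [e3_c0, e3_c1, e3_c2, e3_c3, e3_c4, e3_c5, e3_c6]
noncomputable def e3_ch (x j : Nat) : Bx Nat := chunkG e3_cols (nat_lit 1) x j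
noncomputable def e3_L (x : Nat) : Bx (Nat → Nat) := lookG e3_ch (nat_lit 8) (nat_lit 255) (nat_lit 15) (nat_lit 32767) x
noncomputable def e3_pc (_ j : Nat) : Bx Nat := e3_p.get j
noncomputable def e3_pb : Bx (Nat → Nat) := lookG e3_pc (nat_lit 8) (nat_lit 255) (nat_lit 16) (nat_lit 65535) (nat_lit 0)
noncomputable def e3_rots : BT CW := (BT.node (nat_lit 19) (BT.node (nat_lit 9) (BT.node (nat_lit 4) (BT.node (nat_lit 2) (BT.node (nat_lit 1) (BT.leaf ⟨[], (nat_lit 1000000), (nat_lit 0), (nat_lit 0), (nat_lit 0)⟩) (BT.leaf ⟨[], (nat_lit 1000000), (nat_lit 0), (nat_lit 0), (nat_lit 1)⟩)) (BT.node (nat_lit 3) (BT.leaf ⟨[], (nat_lit 1000000), (nat_lit 0), (nat_lit 0), (nat_lit 2)⟩) (BT.leaf ⟨[(nat_lit 1), (nat_lit 1)], (nat_lit 0), (nat_lit 0), (nat_lit 0), (nat_lit 3)⟩))) (BT.node (nat_lit 6) (BT.node (nat_lit 5) (BT.leaf ⟨[(nat_lit 2), (nat_lit 2)],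 (nat_lit 1), (nat_lit 0), (nat_lit 0), (nat_lit 3)⟩) (BT.leaf ⟨[(nat_lit 6), (nat_lit 6)], (nat_lit 5), (nat_lit 0), (nat_lit 0), (nat_lit 3)⟩)) (BT.node (nat_lit 7) (BT.leaf ⟨[(nat_lit 4), (nat_lit 4)], (nat_lit 3), (nat_lit 0), (nat_lit 0), (nat_lit 3)⟩) (BT.node (nat_lit 8) (BT.leaf ⟨[(nat_lit 5), (nat_lit 5)], (nat_lit 4), (nat_lit 0), (nat_lit 0), (nat_lit 3)⟩) (BT.leaf ⟨[(nat_lit 3), (nat_lit 3)], (nat_lit 2), (nat_lit 0), (nat_lit 0), (nat_lit 3)⟩))))) (BT.node (nat_lit 14) (BT.node (nat_lit 11) (BT.node (nat_lit 10) (BT.leaf ⟨[(nat_lit 4), (nat_lit 5), (nat_lit 4), (nat_lit 5)], (nat_lit 19), (nat_lit 0), (nat_lit 0), (nat_lit 3)⟩) (BT.leaf ⟨[(nat_lit 3), (nat_lit 5), (nat_lit 3), (nat_lit 5)], (nat_lit 20), (nat_lit 0), (nat_lit 0), (nat_lit 3)⟩)) (BT.node (nat_lit 12) (BT.leaf ⟨[(nat_lit 3), (nat_lit 6), (nat_lit 3), (nat_lit 6)], (nat_lit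 16), (nat_lit 1), (nat_lit 0), (nat_lit 3)⟩) (BT.node (nat_lit 13) (BT.leaf ⟨[(nat_lit 3), (nat_lit 2), (nat_lit 3), (nat_lit 2)], (nat_lit 13), (nat_lit 1), (nat_lit 0), (nat_lit 3)⟩) (BT.leaf ⟨[(nat_lit 2), (nat_lit 4), (nat_lit 2), (nat_lit 4)], (nat_lit 12), (nat_lit 0), (nat_lit 0), (nat_lit 3)⟩)))) (BT.node (nat_lit 16) (BT.node (nat_lit 15) (BT.leaf ⟨[(nat_lit 3), (nat_lit 1), (nat_lit 3), (nat_lit 1)], (nat_lit 9), (nat_lit 1), (nat_lit 0), (nat_lit 3)⟩) (BT.leaf ⟨[(nat_lit 1), (nat_lit 4), (nat_lit 1), (nat_lit 4)], (nat_lit 8), (nat_lit 0), (nat_lit 0), (nat_lit 3)⟩)) (BT.node (nat_lit 17) (BT.leaf ⟨[(nat_lit 1), (nat_lit 6), (nat_lit 1), (nat_lit 6)], (nat_lit 7), (nat_lit 0), (nat_lit 0), (nat_lit 3)⟩) (BT.node (nat_lit 18) (BT.leaf ⟨[(nat_lit 1), (nat_lit 5), (nat_lit 1), (nat_lit 5)], (nat_lit 10), (nat_lit 0), (nat_lit 0), (nat_lit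 3)⟩) (BT.leaf ⟨[(nat_lit 2), (nat_lit 5), (nat_lit 2), (nat_lit 5)], (nat_lit 14), (nat_lit 0), (nat_lit 0), (nat_lit 3)⟩)))))) (BT.node (nat_lit 29) (BT.node (nat_lit 24) (BT.node (nat_lit 21) (BT.node (nat_lit 20) (BT.leaf ⟨[(nat_lit 6), (nat_lit 1), (nat_lit 6), (nat_lit 1)], (nat_lit 7), (nat_lit 1), (nat_lit 0), (nat_lit 3)⟩) (BT.leaf ⟨[(nat_lit 4), (nat_lit 1), (nat_lit 4), (nat_lit 1)], (nat_lit 8), (nat_lit 1), (nat_lit 0), (nat_lit 3)⟩)) (BT.node (nat_lit 22) (BT.leaf ⟨[(nat_lit 5), (nat_lit 1), (nat_lit 5), (nat_lit 1)], (nat_lit 10), (nat_lit 1), (nat_lit 0), (nat_lit 3)⟩) (BT.node (nat_lit 23) (BT.leaf ⟨[(nat_lit 4), (nat_lit 2), (nat_lit 4), (nat_lit 2)], (nat_lit 12), (nat_lit 1), (nat_lit 0), (nat_lit 3)⟩) (BT.leaf ⟨[(nat_lit 5), (nat_lit 2), (nat_lit 5), (nat_lit 2)], (nat_lit 14), (nat_lit 1), (nat_lit 0), (nat_lit 3)⟩)))) (BT.node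 (nat_lit 26) (BT.node (nat_lit 25) (BT.leaf ⟨[(nat_lit 1), (nat_lit 2), (nat_lit 1), (nat_lit 2), (nat_lit 1), (nat_lit 2)], (nat_lit 6), (nat_lit 0), (nat_lit 0), (nat_lit 3)⟩) (BT.leaf ⟨[(nat_lit 1), (nat_lit 3), (nat_lit 1), (nat_lit 3)], (nat_lit 9), (nat_lit 0), (nat_lit 0), (nat_lit 3)⟩)) (BT.node (nat_lit 27) (BT.leaf ⟨[(nat_lit 2), (nat_lit 6), (nat_lit 2), (nat_lit 6), (nat_lit 2), (nat_lit 6)], (nat_lit 11), (nat_lit 0), (nat_lit 0), (nat_lit 3)⟩) (BT.node (nat_lit 28) (BT.leaf ⟨[(nat_lit 2), (nat_lit 3), (nat_lit 2), (nat_lit 3)], (nat_lit 13), (nat_lit 0), (nat_lit 0), (nat_lit 3)⟩) (BT.leaf ⟨[(nat_lit 6), (nat_lit 4), (nat_lit 6), (nat_lit 4), (nat_lit 6), (nat_lit 4)], (nat_lit 15), (nat_lit 0), (nat_lit 0), (nat_lit 3)⟩))))) (BT.node (nat_lit 34) (BT.node (nat_lit 31) (BT.node (nat_lit 30) (BT.leaf ⟨[(nat_lit 6), (nat_lit 3), (nat_lit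 6), (nat_lit 3)], (nat_lit 16), (nat_lit 0), (nat_lit 0), (nat_lit 3)⟩) (BT.leaf ⟨[(nat_lit 6), (nat_lit 5), (nat_lit 6), (nat_lit 5), (nat_lit 6), (nat_lit 5)], (nat_lit 17), (nat_lit 0), (nat_lit 0), (nat_lit 3)⟩)) (BT.node (nat_lit 32) (BT.leaf ⟨[(nat_lit 4), (nat_lit 3), (nat_lit 4), (nat_lit 3), (nat_lit 4), (nat_lit 3)], (nat_lit 18), (nat_lit 0), (nat_lit 0), (nat_lit 3)⟩) (BT.node (nat_lit 33) (BT.leaf ⟨[(nat_lit 2), (nat_lit 1), (nat_lit 2), (nat_lit 1), (nat_lit 2), (nat_lit 1)], (nat_lit 6), (nat_lit 1), (nat_lit 0), (nat_lit 3)⟩) (BT.leaf ⟨[(nat_lit 6), (nat_lit 2), (nat_lit 6), (nat_lit 2), (nat_lit 6), (nat_lit 2)], (nat_lit 11), (nat_lit 1), (nat_lit 0), (nat_lit 3)⟩)))) (BT.node (nat_lit 36) (BT.node (nat_lit 35) (BT.leaf ⟨[(nat_lit 5), (nat_lit 6), (nat_lit 5), (nat_lit 6), (nat_lit 5), (nat_lit 6)], (nat_lit 17), (nat_lit 1), (nat_lit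 0), (nat_lit 3)⟩) (BT.leaf ⟨[(nat_lit 5), (nat_lit 3), (nat_lit 5), (nat_lit 3)], (nat_lit 20), (nat_lit 1), (nat_lit 0), (nat_lit 3)⟩)) (BT.node (nat_lit 37) (BT.leaf ⟨[(nat_lit 5), (nat_lit 4), (nat_lit 5), (nat_lit 4)], (nat_lit 19), (nat_lit 1), (nat_lit 0), (nat_lit 3)⟩) (BT.node (nat_lit 38) (BT.leaf ⟨[(nat_lit 4), (nat_lit 6), (nat_lit 4), (nat_lit 6), (nat_lit 4), (nat_lit 6)], (nat_lit 15), (nat_lit 1), (nat_lit 0), (nat_lit 3)⟩) (BT.leaf ⟨[(nat_lit 3), (nat_lit 4), (nat_lit 3), (nat_lit 4), (nat_lit 3), (nat_lit 4)], (nat_lit 18), (nat_lit 1), (nat_lit 0), (nat_lit 3)⟩)))))))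
noncomputable def e3_hcs : List CW := [⟨[(nat_lit 2)], (nat_lit 0), (nat_lit 0), (nat_lit 0), (nat_lit 0)⟩, ⟨[(nat_lit 6)], (nat_lit 1), (nat_lit 0), (nat_lit 0), (nat_lit 0)⟩, ⟨[(nat_lit 4)], (nat_lit 2), (nat_lit 0), (nat_lit 0), (nat_lit 0)⟩, ⟨[(nat_lit 3)], (nat_lit 3), (nat_lit 0), (nat_lit 0), (nat_lit 0)⟩, ⟨[(nat_lit 5)], (nat_lit 4), (nat_lit 0), (nat_lit 0), (nat_lit 0)⟩, ⟨[(nat_lit 2)], (nat_lit 5), (nat_lit 0), (nat_lit 0), (nat_lit 0)⟩, ⟨[(nat_lit 6)], (nat_lit 6), (nat_lit 0), (nat_lit 0), (nat_lit 0)⟩, ⟨[(nat_lit 4)], (nat_lit 7), (nat_lit 0), (nat_lit 0), (nat_lit 0)⟩, ⟨[(nat_lit 3)], (nat_lit 8), (nat_lit 0), (nat_lit 0), (nat_lit 0)⟩, ⟨[(nat_lit 5)], (nat_lit 9), (nat_lit 0), (nat_lit 0), (nat_lit 0)⟩]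
noncomputable def e3_H (x j : Nat) : Bx (Nat → Nat → Nat) := mkH e3_L e3_pb.1 e3_e.get (lmap CW.w e3_hcs) (nat_lit 27) (nat_lit 28) (nat_lit 7) (nat_lit 32) (nat_lit 2048) (nat_lit 2047) x (e3_rots.get j)
noncomputable def e3_F (x b : Nat) : Bool := blkOK e3_H e3_ch (nat_lit 28) (nat_lit 32) (nat_lit 64) (nat_lit 8) (nat_lit 255) (nat_lit 15) (nat_lit 32767) x b

theorem e3_k0_0 : allFrom (e3_F (nat_lit 0)) (nat_lit 0) (nat_lit 4) = true := by decide +kernel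
theorem e3_k1_0 : allFrom (e3_F (nat_lit 1)) (nat_lit 0) (nat_lit 4) = true := by decide +kernel
theorem e3_k2_0 : allFrom (e3_F (nat_lit 2)) (nat_lit 0) (nat_lit 4) = true := by decide +kernel
theorem e3_k3_0 : allFrom (e3_F (nat_lit 3)) (nat_lit 0) (nat_lit 4) = true := by decide +kernel
theorem e3_k4_0 : allFrom (e3_F (nat_lit 4)) (nat_lit 0) (nat_lit 4) = true := by decide +kernel
theorem e3_k5_0 : allFrom (e3_F (nat_lit 5)) (nat_lit 0) (nat_lit 4) = true := by decide +kernel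
theorem e3_k6_0 : allFrom (e3_F (nat_lit 6)) (nat_lit 0) (nat_lit 4) = true := by decide +kernel

noncomputable def e4_c0 : BT (Bx Nat) := (BT.leaf (Bx.mk (nat_lit 0x0)))
noncomputable def e4_c1 : BT (Bx Nat) := (BT.leaf (Bx.mk (nat_lit 0xa30383e1ad723a48a922682ca0ad628689da467895da4880e481a088000)))
noncomputable def e4_c2 : BT (Bx Nat) := (BT.leaf (Bx.mk (nat_lit 0x95035bd18e5e3510b563190975aa14774225046516826758e182a184000)))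
noncomputable def e4_c3 : BT (Bx Nat) := (BT.leaf (Bx.mk (nat_lit 0x5302dbe4cc932a82e572e82d6da55288495ac6731e4c3a0921c2a184000)))
noncomputable def e4_c4 : BT (Bx Nat) := (BT.leaf (Bx.mk (nat_lit 0x24efa0c0b4e4d34f2c57ad72a6c264e69392828938e827a0961e2a184000)))
noncomputable def e4_c5 : BT (Bx Nat) := (BT.leaf (Bx.mk (nat_lit 0x6b092ba82f49b4e8c5bae4a8929e82aa0a5a867a95e64928a823a184000)))
noncomputable def e4_p : BT (Bx Nat) := (BT.leaf (Bx.mk (nat_lit 0x53c4970b0c0dd41ba816482c8154e2a98442088408c6218c3210a21040000000)))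
noncomputable def e4_e0 : BT Nat := (BT.node (nat_lit 68) (BT.node (nat_lit 67) (BT.leaf (nat_lit 524290)) (BT.leaf (nat_lit 262146))) (BT.node (nat_lit 69) (BT.leaf (nat_lit 786434)) (BT.leaf (nat_lit 2))))
noncomputable def e4_e : BT Nat := e4_e0
noncomputable def e4_cols : List (BT (Bx Nat)) := [e4_c0, e4_c1, e4_c2, e4_c3, e4_c4, e4_c5]
noncomputable def e4_ch (x j : Nat) : Bx Nat := chunkG e4_cols (nat_lit 1) x j
noncomputable def e4_L (x : Nat) : Bx (Nat → Nat) := lookG e4_ch (nat_lit 8) (nat_lit 255) (nat_lit 14) (nat_lit 16383) x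
noncomputable def e4_pc (_ j : Nat) : Bx Nat := e4_p.get j
noncomputable def e4_pb : Bx (Nat → Nat) := lookG e4_pc (nat_lit 8) (nat_lit 255) (nat_lit 15) (nat_lit 32767) (nat_lit 0)
noncomputable def e4_rots : BT CW := (BT.node (nat_lit 14) (BT.node (nat_lit 7) (BT.node (nat_lit 3) (BT.node (nat_lit 1) (BT.leaf ⟨[], (nat_lit 1000000), (nat_lit 0), (nat_lit 0), (nat_lit 0)⟩) (BT.node (nat_lit 2) (BT.leaf ⟨[], (nat_lit 1000000), (nat_lit 0), (nat_lit 0), (nat_lit 1)⟩) (BT.leaf ⟨[], (nat_lit 1000000), (nat_lit 0), (nat_lit 0), (nat_lit 2)⟩))) (BT.node (nat_lit 5) (BT.node (nat_lit 4) (BT.leaf ⟨[(nat_lit 1), (nat_lit 1)], (nat_lit 0), (nat_lit 0), (nat_lit 0), (nat_lit 3)⟩) (BT.leaf ⟨[(nat_lit 5), (nat_lit 5)], (nat_lit 4), (nat_lit 0), (nat_lit 0), (nat_lit 3)⟩)) (BT.node (nat_lit 6) (BT.leaf ⟨[(nat_lit 3), (nat_lit 3)], (nat_lit 2), (nat_lit 0), (nat_lit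 0), (nat_lit 3)⟩) (BT.leaf ⟨[(nat_lit 4), (nat_lit 4)], (nat_lit 3), (nat_lit 0), (nat_lit 0), (nat_lit 3)⟩)))) (BT.node (nat_lit 10) (BT.node (nat_lit 8) (BT.leaf ⟨[(nat_lit 2), (nat_lit 2)], (nat_lit 1), (nat_lit 0), (nat_lit 0), (nat_lit 3)⟩) (BT.node (nat_lit 9) (BT.leaf ⟨[(nat_lit 3), (nat_lit 4), (nat_lit 3), (nat_lit 4)], (nat_lit 13), (nat_lit 0), (nat_lit 0), (nat_lit 3)⟩) (BT.leaf ⟨[(nat_lit 2), (nat_lit 4), (nat_lit 2), (nat_lit 4)], (nat_lit 14), (nat_lit 0), (nat_lit 0), (nat_lit 3)⟩))) (BT.node (nat_lit 12) (BT.node (nat_lit 11) (BT.leaf ⟨[(nat_lit 2), (nat_lit 5), (nat_lit 2), (nat_lit 5)], (nat_lit 10), (nat_lit 1), (nat_lit 0), (nat_lit 3)⟩) (BT.leaf ⟨[(nat_lit 2), (nat_lit 1), (nat_lit 2), (nat_lit 1)], (nat_lit 7), (nat_lit 1), (nat_lit 0), (nat_lit 3)⟩)) (BT.node (nat_lit 13) (BT.leaf ⟨[(nat_lit 1), (nat_lit 3), (nat_lit 1), (nat_lit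 3)], (nat_lit 6), (nat_lit 0), (nat_lit 0), (nat_lit 3)⟩) (BT.leaf ⟨[(nat_lit 3), (nat_lit 1), (nat_lit 3), (nat_lit 1)], (nat_lit 6), (nat_lit 1), (nat_lit 0), (nat_lit 3)⟩))))) (BT.node (nat_lit 21) (BT.node (nat_lit 17) (BT.node (nat_lit 15) (BT.leaf ⟨[(nat_lit 4), (nat_lit 1), (nat_lit 4), (nat_lit 1)], (nat_lit 8), (nat_lit 1), (nat_lit 0), (nat_lit 3)⟩) (BT.node (nat_lit 16) (BT.leaf ⟨[(nat_lit 1), (nat_lit 5), (nat_lit 1), (nat_lit 5), (nat_lit 1), (nat_lit 5)], (nat_lit 5), (nat_lit 0), (nat_lit 0), (nat_lit 3)⟩) (BT.leaf ⟨[(nat_lit 1), (nat_lit 4), (nat_lit 1), (nat_lit 4)], (nat_lit 8), (nat_lit 0), (nat_lit 0), (nat_lit 3)⟩))) (BT.node (nat_lit 19) (BT.node (nat_lit 18) (BT.leaf ⟨[(nat_lit 1), (nat_lit 2), (nat_lit 1), (nat_lit 2)], (nat_lit 7), (nat_lit 0), (nat_lit 0), (nat_lit 3)⟩) (BT.leaf ⟨[(nat_lit 5), (nat_lit 3), (nat_lit 5), (nat_lit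 3), (nat_lit 5), (nat_lit 3)], (nat_lit 9), (nat_lit 0), (nat_lit 0), (nat_lit 3)⟩)) (BT.node (nat_lit 20) (BT.leaf ⟨[(nat_lit 5), (nat_lit 2), (nat_lit 5), (nat_lit 2)], (nat_lit 10), (nat_lit 0), (nat_lit 0), (nat_lit 3)⟩) (BT.leaf ⟨[(nat_lit 5), (nat_lit 4), (nat_lit 5), (nat_lit 4), (nat_lit 5), (nat_lit 4)], (nat_lit 11), (nat_lit 0), (nat_lit 0), (nat_lit 3)⟩)))) (BT.node (nat_lit 24) (BT.node (nat_lit 22) (BT.leaf ⟨[(nat_lit 3), (nat_lit 2), (nat_lit 3), (nat_lit 2), (nat_lit 3), (nat_lit 2)], (nat_lit 12), (nat_lit 0), (nat_lit 0), (nat_lit 3)⟩) (BT.node (nat_lit 23) (BT.leaf ⟨[(nat_lit 5), (nat_lit 1), (nat_lit 5), (nat_lit 1), (nat_lit 5), (nat_lit 1)], (nat_lit 5), (nat_lit 1), (nat_lit 0), (nat_lit 3)⟩) (BT.leaf ⟨[(nat_lit 4), (nat_lit 5), (nat_lit 4), (nat_lit 5), (nat_lit 4), (nat_lit 5)], (nat_lit 11), (nat_lit 1), (nat_lit 0), (nat_lit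 3)⟩))) (BT.node (nat_lit 26) (BT.node (nat_lit 25) (BT.leaf ⟨[(nat_lit 4), (nat_lit 2), (nat_lit 4), (nat_lit 2)], (nat_lit 14), (nat_lit 1), (nat_lit 0), (nat_lit 3)⟩) (BT.leaf ⟨[(nat_lit 4), (nat_lit 3), (nat_lit 4), (nat_lit 3)], (nat_lit 13), (nat_lit 1), (nat_lit 0), (nat_lit 3)⟩)) (BT.node (nat_lit 27) (BT.leaf ⟨[(nat_lit 3), (nat_lit 5), (nat_lit 3), (nat_lit 5), (nat_lit 3), (nat_lit 5)], (nat_lit 9), (nat_lit 1), (nat_lit 0), (nat_lit 3)⟩) (BT.leaf ⟨[(nat_lit 2), (nat_lit 3), (nat_lit 2), (nat_lit 3), (nat_lit 2), (nat_lit 3)], (nat_lit 12), (nat_lit 1), (nat_lit 0), (nat_lit 3)⟩))))))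
noncomputable def e4_hcs : List CW := [⟨[(nat_lit 5)], (nat_lit 0), (nat_lit 0), (nat_lit 0), (nat_lit 0)⟩, ⟨[(nat_lit 3)], (nat_lit 1), (nat_lit 0), (nat_lit 0), (nat_lit 0)⟩, ⟨[(nat_lit 2)], (nat_lit 2), (nat_lit 0), (nat_lit 0), (nat_lit 0)⟩, ⟨[(nat_lit 4)], (nat_lit 3), (nat_lit 0), (nat_lit 0), (nat_lit 0)⟩, ⟨[(nat_lit 5)], (nat_lit 4), (nat_lit 0), (nat_lit 0), (nat_lit 0)⟩, ⟨[(nat_lit 3)], (nat_lit 5), (nat_lit 0), (nat_lit 0), (nat_lit 0)⟩, ⟨[(nat_lit 2)], (nat_lit 6), (nat_lit 0), (nat_lit 0), (nat_lit 0)⟩, ⟨[(nat_lit 4)], (nat_lit 7), (nat_lit 0), (nat_lit 0), (nat_lit 0)⟩]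
noncomputable def e4_H (x j : Nat) : Bx (Nat → Nat → Nat) := mkH e4_L e4_pb.1 e4_e.get (lmap CW.w e4_hcs) (nat_lit 16) (nat_lit 17) (nat_lit 6) (nat_lit 32) (nat_lit 1024) (nat_lit 2047) x (e4_rots.get j)
noncomputable def e4_F (x b : Nat) : Bool := blkOK e4_H e4_ch (nat_lit 17) (nat_lit 32) (nat_lit 32) (nat_lit 8) (nat_lit 255) (nat_lit 14) (nat_lit 16383) x b

theorem e4_k0_0 : allFrom (e4_F (nat_lit 0)) (nat_lit 0) (nat_lit 4) = true := by decide +kernel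
theorem e4_k1_0 : allFrom (e4_F (nat_lit 1)) (nat_lit 0) (nat_lit 4) = true := by decide +kernel
theorem e4_k2_0 : allFrom (e4_F (nat_lit 2)) (nat_lit 0) (nat_lit 4) = true := by decide +kernel
theorem e4_k3_0 : allFrom (e4_F (nat_lit 3)) (nat_lit 0) (nat_lit 4) = true := by decide +kernel
theorem e4_k4_0 : allFrom (e4_F (nat_lit 4)) (nat_lit 0) (nat_lit 4) = true := by decide +kernel
theorem e4_k5_0 : allFrom (e4_F (nat_lit 5)) (nat_lit 0) (nat_lit 4) = true := by decide +kernel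

noncomputable def e5_c0 : BT (Bx Nat) := (BT.leaf (Bx.mk (nat_lit 0x0)))
noncomputable def e5_c1 : BT (Bx Nat) := (BT.leaf (Bx.mk (nat_lit 0x21e50d4a6d2a8c800)))
noncomputable def e5_c2 : BT (Bx Nat) := (BT.leaf (Bx.mk (nat_lit 0xc2c33a18d0a8c800)))
noncomputable def e5_c3 : BT (Bx Nat) := (BT.leaf (Bx.mk (nat_lit 0xb6a646b708685000)))
noncomputable def e5_c4 : BT (Bx Nat) := (BT.leaf (Bx.mk (nat_lit 0xbea7485542e8c800)))
noncomputable def e5_p : BT (Bx Nat) := (BT.leaf (Bx.mk (nat_lit 0x9016c2484243000000)))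
noncomputable def e5_e0 : BT Nat := (BT.node (nat_lit 66) (BT.leaf (nat_lit 524290)) (BT.node (nat_lit 68) (BT.leaf (nat_lit 262146)) (BT.leaf (nat_lit 2))))
noncomputable def e5_e : BT Nat := e5_e0
noncomputable def e5_cols : List (BT (Bx Nat)) := [e5_c0, e5_c1, e5_c2, e5_c3, e5_c4]
noncomputable def e5_ch (x j : Nat) : Bx Nat := chunkG e5_cols (nat_lit 1) x j
noncomputable def e5_L (x : Nat) : Bx (Nat → Nat) := lookG e5_ch (nat_lit 8) (nat_lit 255) (nat_lit 11) (nat_lit 2047) x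
noncomputable def e5_pc (_ j : Nat) : Bx Nat := e5_p.get j
noncomputable def e5_pb : Bx (Nat → Nat) := lookG e5_pc (nat_lit 8) (nat_lit 255) (nat_lit 12) (nat_lit 4095) (nat_lit 0)
noncomputable def e5_rots : BT CW := (BT.node (nat_lit 8) (BT.node (nat_lit 4) (BT.node (nat_lit 2) (BT.node (nat_lit 1) (BT.leaf ⟨[], (nat_lit 1000000), (nat_lit 0), (nat_lit 0), (nat_lit 0)⟩) (BT.leaf ⟨[], (nat_lit 1000000), (nat_lit 0), (nat_lit 0), (nat_lit 1)⟩)) (BT.node (nat_lit 3) (BT.leaf ⟨[], (nat_lit 1000000), (nat_lit 0), (nat_lit 0), (nat_lit 2)⟩) (BT.leaf ⟨[(nat_lit 3), (nat_lit 3)], (nat_lit 2), (nat_lit 0), (nat_lit 0), (nat_lit 3)⟩))) (BT.node (nat_lit 6) (BT.node (nat_lit 5) (BT.leaf ⟨[(nat_lit 4), (nat_lit 4)], (nat_lit 3), (nat_lit 0), (nat_lit 0), (nat_lit 3)⟩) (BT.leaf ⟨[(nat_lit 2), (nat_lit 2)], (nat_lit 1), (nat_lit 0), (nat_lit 0), (nat_lit 3)⟩))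 (BT.node (nat_lit 7) (BT.leaf ⟨[(nat_lit 1), (nat_lit 1)], (nat_lit 0), (nat_lit 0), (nat_lit 0), (nat_lit 3)⟩) (BT.leaf ⟨[(nat_lit 2), (nat_lit 3), (nat_lit 2), (nat_lit 3)], (nat_lit 8), (nat_lit 0), (nat_lit 0), (nat_lit 3)⟩)))) (BT.node (nat_lit 12) (BT.node (nat_lit 10) (BT.node (nat_lit 9) (BT.leaf ⟨[(nat_lit 1), (nat_lit 3), (nat_lit 1), (nat_lit 3)], (nat_lit 9), (nat_lit 0), (nat_lit 0), (nat_lit 3)⟩) (BT.leaf ⟨[(nat_lit 1), (nat_lit 4), (nat_lit 1), (nat_lit 4)], (nat_lit 5), (nat_lit 1), (nat_lit 0), (nat_lit 3)⟩)) (BT.node (nat_lit 11) (BT.leaf ⟨[(nat_lit 3), (nat_lit 4), (nat_lit 3), (nat_lit 4), (nat_lit 3), (nat_lit 4)], (nat_lit 6), (nat_lit 1), (nat_lit 0), (nat_lit 3)⟩) (BT.leaf ⟨[(nat_lit 3), (nat_lit 2), (nat_lit 3), (nat_lit 2)], (nat_lit 8), (nat_lit 1), (nat_lit 0), (nat_lit 3)⟩))) (BT.node (nat_lit 14) (BT.node (nat_lit 13)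 (BT.leaf ⟨[(nat_lit 3), (nat_lit 1), (nat_lit 3), (nat_lit 1)], (nat_lit 9), (nat_lit 1), (nat_lit 0), (nat_lit 3)⟩) (BT.leaf ⟨[(nat_lit 4), (nat_lit 2), (nat_lit 4), (nat_lit 2), (nat_lit 4), (nat_lit 2)], (nat_lit 4), (nat_lit 0), (nat_lit 0), (nat_lit 3)⟩)) (BT.node (nat_lit 15) (BT.leaf ⟨[(nat_lit 4), (nat_lit 1), (nat_lit 4), (nat_lit 1)], (nat_lit 5), (nat_lit 0), (nat_lit 0), (nat_lit 3)⟩) (BT.leaf ⟨[(nat_lit 2), (nat_lit 1), (nat_lit 2), (nat_lit 1), (nat_lit 2), (nat_lit 1)], (nat_lit 7), (nat_lit 0), (nat_lit 0), (nat_lit 3)⟩)))))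
noncomputable def e5_hcs : List CW := [⟨[(nat_lit 4)], (nat_lit 0), (nat_lit 0), (nat_lit 0), (nat_lit 0)⟩, ⟨[(nat_lit 2)], (nat_lit 1), (nat_lit 0), (nat_lit 0), (nat_lit 0)⟩, ⟨[(nat_lit 1)], (nat_lit 2), (nat_lit 0), (nat_lit 0), (nat_lit 0)⟩, ⟨[(nat_lit 4)], (nat_lit 3), (nat_lit 0), (nat_lit 0), (nat_lit 0)⟩, ⟨[(nat_lit 2)], (nat_lit 4), (nat_lit 0), (nat_lit 0), (nat_lit 0)⟩, ⟨[(nat_lit 1)], (nat_lit 5), (nat_lit 0), (nat_lit 0), (nat_lit 0)⟩]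
noncomputable def e5_H (x j : Nat) : Bx (Nat → Nat → Nat) := mkH e5_L e5_pb.1 e5_e.get (lmap CW.w e5_hcs) (nat_lit 5) (nat_lit 6) (nat_lit 5) (nat_lit 8) (nat_lit 256) (nat_lit 511) x (e5_rots.get j)
noncomputable def e5_F (x b : Nat) : Bool := blkOK e5_H e5_ch (nat_lit 6) (nat_lit 8) (nat_lit 32) (nat_lit 8) (nat_lit 255) (nat_lit 11) (nat_lit 2047) x b

theorem e5_k0_0 : allFrom (e5_F (nat_lit 0)) (nat_lit 0) (nat_lit 4) = true := by decide +kernel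
theorem e5_k1_0 : allFrom (e5_F (nat_lit 1)) (nat_lit 0) (nat_lit 4) = true := by decide +kernel
theorem e5_k2_0 : allFrom (e5_F (nat_lit 2)) (nat_lit 0) (nat_lit 4) = true := by decide +kernel
theorem e5_k3_0 : allFrom (e5_F (nat_lit 3)) (nat_lit 0) (nat_lit 4) = true := by decide +kernel
theorem e5_k4_0 : allFrom (e5_F (nat_lit 4)) (nat_lit 0) (nat_lit 4) = true := by decide +kernel

noncomputable def e6_c0 : BT (Bx Nat) := (BT.leaf (Bx.mk (nat_lit 0x0)))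
noncomputable def e6_c1 : BT (Bx Nat) := (BT.leaf (Bx.mk (nat_lit 0xa95a93a91c38a8ec37a8cc368eba89c348e8c32690a85c2f68da838e4c2a686c27a81c22000)))
noncomputable def e6_c2 : BT (Bx Nat) := (BT.leaf (Bx.mk (nat_lit 0x4b64b4718ab0717aad4afaabc35712aa8c33aa6c31907aa4c2e6aac2caa2c29aa1c25c23000)))
noncomputable def e6_c3 : BT (Bx Nat) := (BT.leaf (Bx.mk (nat_lit 0x5572d84d24d34cf73575692caca754929ac76d1ac5c306ceac3c2dac2c2bac1c28c26c24000)))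
noncomputable def e6_p : BT (Bx Nat) := (BT.leaf (Bx.mk (nat_lit 0x3541b306c41b00a3818d0a3018b0a2836905a02670d982650d94144090c34305083420884321088410000000)))
noncomputable def e6_e : BT Nat := BT.leaf (nat_lit 0)
noncomputable def e6_cols : List (BT (Bx Nat)) := [e6_c0, e6_c1, e6_c2, e6_c3]
noncomputable def e6_ch (x j : Nat) : Bx Nat := chunkG e6_cols (nat_lit 1) x j
noncomputable def e6_L (x : Nat) : Bx (Nat → Nat) := lookG e6_ch (nat_lit 8) (nat_lit 255) (nat_lit 12) (nat_lit 4095) x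
noncomputable def e6_pc (_ j : Nat) : Bx Nat := e6_p.get j
noncomputable def e6_pb : Bx (Nat → Nat) := lookG e6_pc (nat_lit 8) (nat_lit 255) (nat_lit 14) (nat_lit 16383) (nat_lit 0)
noncomputable def e6_rots : BT CW := (BT.node (nat_lit 5) (BT.node (nat_lit 2) (BT.node (nat_lit 1) (BT.leaf ⟨[], (nat_lit 1000000), (nat_lit 0), (nat_lit 0), (nat_lit 0)⟩) (BT.leaf ⟨[], (nat_lit 1000000), (nat_lit 0), (nat_lit 0), (nat_lit 1)⟩)) (BT.node (nat_lit 3) (BT.leaf ⟨[], (nat_lit 1000000), (nat_lit 0), (nat_lit 0), (nat_lit 2)⟩) (BT.node (nat_lit 4) (BT.leaf ⟨[(nat_lit 1), (nat_lit 1)], (nat_lit 0), (nat_lit 0), (nat_lit 0), (nat_lit 3)⟩) (BT.leaf ⟨[(nat_lit 2), (nat_lit 2)], (nat_lit 1), (nat_lit 0), (nat_lit 0), (nat_lit 3)⟩)))) (BT.node (nat_lit 7) (BT.node (nat_lit 6) (BT.leaf ⟨[(nat_lit 3), (nat_lit 3)], (nat_lit 2), (nat_lit 0), (nat_lit 0), (nat_lit 3)⟩)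 (BT.leaf ⟨[(nat_lit 1), (nat_lit 3), (nat_lit 1), (nat_lit 3)], (nat_lit 4), (nat_lit 1), (nat_lit 0), (nat_lit 3)⟩)) (BT.node (nat_lit 8) (BT.leaf ⟨[(nat_lit 2), (nat_lit 1), (nat_lit 2), (nat_lit 1), (nat_lit 2), (nat_lit 1)], (nat_lit 5), (nat_lit 0), (nat_lit 0), (nat_lit 3)⟩) (BT.node (nat_lit 9) (BT.leaf ⟨[(nat_lit 3), (nat_lit 2), (nat_lit 3), (nat_lit 2), (nat_lit 3), (nat_lit 2)], (nat_lit 3), (nat_lit 0), (nat_lit 0), (nat_lit 3)⟩) (BT.leaf ⟨[(nat_lit 3), (nat_lit 1), (nat_lit 3), (nat_lit 1)], (nat_lit 4), (nat_lit 0), (nat_lit 0), (nat_lit 3)⟩)))))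
noncomputable def e6_hcs : List CW := []
noncomputable def e6_H (x j : Nat) : Bx (Nat → Nat → Nat) := mkH e6_L e6_pb.1 e6_e.get (lmap CW.w e6_hcs) (nat_lit 24) (nat_lit 25) (nat_lit 4) (nat_lit 32) (nat_lit 512) (nat_lit 2047) x (e6_rots.get j)
noncomputable def e6_F (x b : Nat) : Bool := blkOK e6_H e6_ch (nat_lit 25) (nat_lit 32) (nat_lit 16) (nat_lit 8) (nat_lit 255) (nat_lit 12) (nat_lit 4095) x b

theorem e6_k0_0 : allFrom (e6_F (nat_lit 0)) (nat_lit 0) (nat_lit 4) = true := by decide +kernel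
theorem e6_k1_0 : allFrom (e6_F (nat_lit 1)) (nat_lit 0) (nat_lit 4) = true := by decide +kernel
theorem e6_k2_0 : allFrom (e6_F (nat_lit 2)) (nat_lit 0) (nat_lit 4) = true := by decide +kernel
theorem e6_k3_0 : allFrom (e6_F (nat_lit 3)) (nat_lit 0) (nat_lit 4) = true := by decide +kernel


end CF.Comp.O8T
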