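import Cfsg.Agent.Comp.Pres
import Cfsg.Agent.Comp.O8T.Rels
import Cfsg.Agent.Comp.O8T.ED

set_option autoImplicit false
set_option maxRecDepth 1000000
set_option maxHeartbeats 0
set_option Elab.async false

namespace CF.Comp.O8T

theorem e2_all : Cov e2_F 4 9 0 := by
  have h := Cov.zero e2_F 4
  have h := h.blk (b := 4) e2_k0_0 rfl
  have h := h.next (y := 1) rfl rfl
  have h := h.blk (b := 4) e2_k1_0 rfl
  have h := h.next (y := 2) rfl rfl
  have h := h.blk (b := 4) e2_k2_0 rfl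
  have h := h.next (y := 3) rfl rfl
  have h := h.blk (b := 4) e2_k3_0 rfl
  have h := h.next (y := 4) rfl rfl
  have h := h.blk (b := 4) e2_k4_0 rfl
  have h := h.next (y := 5) rfl rfl
  have h := h.blk (b := 4) e2_k5_0 rfl
  have h := h.next (y := 6) rfl rfl
  have h := h.blk (b := 4) e2_k6_0 rfl
  have h := h.next (y := 7) rfl rfl
  have h := h.blk (b := 4) e2_k7_0 rfl
  have h := h.next (y := 8) rfl rfl
  have h := h.blk (b := 4) e2_k8_0 rfl
  have h := h.next (y := 9) rfl rfl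
  exact h

theorem e2 : Enum R1 H2 H1 6 :=
  ⟨e2_cols, e2_ch, e2_L, e2_H, e2_pb.1, e2_e.get, [(nat_lit 0), (nat_lit 1), (nat_lit 3), (nat_lit 5), (nat_lit 7), (nat_lit 9), (nat_lit 11), (nat_lit 15), (nat_lit 25)], (nat_lit 4287), (nat_lit 13), e2_rots, e2_hcs,
    (nat_lit 7), (nat_lit 9), (nat_lit 8), (nat_lit 32), (nat_lit 256), (nat_lit 511), (nat_lit 8), (nat_lit 255), (nat_lit 11), (nat_lit 2047), (nat_lit 1), (nat_lit 4),
    fun _ _ => rfl, fun _ => rfl, fun _ _ => rfl, by decide +kernel, e2_all.1⟩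

theorem e3_all : Cov e3_F 4 7 0 := by
  have h := Cov.zero e3_F 4
  have h := h.blk (b := 4) e3_k0_0 rfl
  have h := h.next (y := 1) rfl rfl
  have h := h.blk (b := 4) e3_k1_0 rfl
  have h := h.next (y := 2) rfl rfl
  have h := h.blk (b := 4) e3_k2_0 rfl
  have h := h.next (y := 3) rfl rfl
  have h := h.blk (b := 4) e3_k3_0 rfl
  have h := h.next (y := 4) rfl rfl
  have h := h.blk (b := 4) e3_k4_0 rfl
  have h := h.next (y := 5) rfl rfl
  have h := h.blk (b := 4) e3_k5_0 rfl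
  have h := h.next (y := 6) rfl rfl
  have h := h.blk (b := 4) e3_k6_0 rfl
  have h := h.next (y := 7) rfl rfl
  exact h

theorem e3 : Enum R2 H3 H2 27 :=
  ⟨e3_cols, e3_ch, e3_L, e3_H, e3_pb.1, e3_e.get, [(nat_lit 0), (nat_lit 5), (nat_lit 7), (nat_lit 9), (nat_lit 11), (nat_lit 15), (nat_lit 25)], (nat_lit 4284), (nat_lit 13), e3_rots, e3_hcs,
    (nat_lit 28), (nat_lit 7), (nat_lit 32), (nat_lit 64), (nat_lit 2048), (nat_lit 2047), (nat_lit 8), (nat_lit 255), (nat_lit 15), (nat_lit 32767), (nat_lit 1), (nat_lit 4),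
    fun _ _ => rfl, fun _ => rfl, fun _ _ => rfl, by decide +kernel, e3_all.1⟩

theorem e4_all : Cov e4_F 4 6 0 := by
  have h := Cov.zero e4_F 4
  have h := h.blk (b := 4) e4_k0_0 rfl
  have h := h.next (y := 1) rfl rfl
  have h := h.blk (b := 4) e4_k1_0 rfl
  have h := h.next (y := 2) rfl rfl
  have h := h.blk (b := 4) e4_k2_0 rfl
  have h := h.next (y := 3) rfl rfl
  have h := h.blk (b := 4) e4_k3_0 rfl
  have h := h.next (y := 4) rfl rfl
  have h := h.blk (b := 4) e4_k4_0 rfl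
  have h := h.next (y := 5) rfl rfl
  have h := h.blk (b := 4) e4_k5_0 rfl
  have h := h.next (y := 6) rfl rfl
  exact h

theorem e4 : Enum R3 H4 H3 16 :=
  ⟨e4_cols, e4_ch, e4_L, e4_H, e4_pb.1, e4_e.get, [(nat_lit 0), (nat_lit 7), (nat_lit 9), (nat_lit 11), (nat_lit 15), (nat_lit 25)], (nat_lit 4280), (nat_lit 13), e4_rots, e4_hcs,
    (nat_lit 17), (nat_lit 6), (nat_lit 32), (nat_lit 32), (nat_lit 1024), (nat_lit 2047), (nat_lit 8), (nat_lit 255), (nat_lit 14), (nat_lit 16383), (nat_lit 1), (nat_lit 4),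
    fun _ _ => rfl, fun _ => rfl, fun _ _ => rfl, by decide +kernel, e4_all.1⟩

theorem e5_all : Cov e5_F 4 5 0 := by
  have h := Cov.zero e5_F 4
  have h := h.blk (b := 4) e5_k0_0 rfl
  have h := h.next (y := 1) rfl rfl
  have h := h.blk (b := 4) e5_k1_0 rfl
  have h := h.next (y := 2) rfl rfl
  have h := h.blk (b := 4) e5_k2_0 rfl
  have h := h.next (y := 3) rfl rfl
  have h := h.blk (b := 4) e5_k3_0 rfl
  have h := h.next (y := 4) rfl rfl
  have h := h.blk (b := 4) e5_k4_0 rfl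
  have h := h.next (y := 5) rfl rfl
  exact h

theorem e5 : Enum R4 H5 H4 5 :=
  ⟨e5_cols, e5_ch, e5_L, e5_H, e5_pb.1, e5_e.get, [(nat_lit 0), (nat_lit 9), (nat_lit 11), (nat_lit 15), (nat_lit 25)], (nat_lit 4272), (nat_lit 13), e5_rots, e5_hcs,
    (nat_lit 6), (nat_lit 5), (nat_lit 8), (nat_lit 32), (nat_lit 256), (nat_lit 511), (nat_lit 8), (nat_lit 255), (nat_lit 11), (nat_lit 2047), (nat_lit 1), (nat_lit 4),
    fun _ _ => rfl, fun _ => rfl, fun _ _ => rfl, by decide +kernel, e5_all.1⟩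

theorem e6_all : Cov e6_F 4 4 0 := by
  have h := Cov.zero e6_F 4
  have h := h.blk (b := 4) e6_k0_0 rfl
  have h := h.next (y := 1) rfl rfl
  have h := h.blk (b := 4) e6_k1_0 rfl
  have h := h.next (y := 2) rfl rfl
  have h := h.blk (b := 4) e6_k2_0 rfl
  have h := h.next (y := 3) rfl rfl
  have h := h.blk (b := 4) e6_k3_0 rfl
  have h := h.next (y := 4) rfl rfl
  exact h

theorem e6 : Enum R5 [] H5 24 :=
  ⟨e6_cols, e6_ch, e6_L, e6_H, e6_pb.1, e6_e.get, [(nat_lit 0), (nat_lit 9), (nat_lit 11), (nat_lit 25)], (nat_lit 4144), (nat_lit 13), e6_rots, e6_hcs,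
    (nat_lit 25), (nat_lit 4), (nat_lit 32), (nat_lit 16), (nat_lit 512), (nat_lit 2047), (nat_lit 8), (nat_lit 255), (nat_lit 12), (nat_lit 4095), (nat_lit 1), (nat_lit 4),
    fun _ _ => rfl, fun _ => rfl, fun _ _ => rfl, by decide +kernel, e6_all.1⟩


end CF.Comp.O8T
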